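import Cfsg.Agent.H594.PQ.LinkE8
import Cfsg.Agent.H790.PQ.Node6

/-!
# `E₈`, node `6`: the constituent of degree `1344` (helper230, for S4791 + S4927; data made by a program)

`Ea12.C` (helper790): the constituent `1/2 q^7 P2^4 P4^2 P6^2 P7 P8 P9 P10^2 P12 P14 P18 P20 P24 P30` of the permutation
character on the lines (node `6`, 6720 states, 26 classes).

* `same_84_1344`: for the primes dividing `Φ₅(q)` it is in the block of the constituent of degree `84` (node `7`);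
* `deg_mod`: its degree is `4` modulo these primes;
* `same_1_84`, `deg_mod84`: the constituent of degree `84` is in the principal block and its degree is `-1`.
-/

set_option autoImplicit false
set_option maxRecDepth 20000

namespace Cfsg.Agent.H230.XZ.A12

open Cfsg Cfsg.Agent.H967.Sph Cfsg.Agent.H64.Dl.Sph Cfsg.Agent.H996.Eight Cfsg.Agent.H996.Eight.Cert Cfsg.Agent.H996.PQ
  Cfsg.Agent.H996.PQ.Kr Cfsg.Agent.H594.PQ Cfsg.Agent.H790.PQ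
open CoxeterSystem Cfsg.Agent.ChevalleyStructure.CoxeterGeom Cfsg.Agent.Tits.Roots Cfsg.Agent.Tits.Core
  Cfsg.Agent.Nodes.Reps Cfsg.Agent.Nodes.BNOf Cfsg.Agent.Nodes.Bruhat Cfsg.Agent.Nodes.LeviDec

universe u

def lamL : List (List ℤ) := [[1], [-1, -1, 0, 0, -1, -1, 0, 0, -1], [0, 1, 0, 0, 1, 1, 0, 0, 1], [0, 0, 0, 0, 1, 1, 0, 0, 1, 0, 0, 0, 1], [0, 0, 0, 0, -1, -1, 0, 0, -1, 1, 1, 0, 0, 2, 0, 0, 0, 0, -1], [0, 0, 0, 0, 0, 0, 0, 0, 0, -1, -1, 0, -1, -2, 0, 0, -1, 0, 1, 0, 0, 1], [0, 0, 0, 0, 0, 0, 0, 0, 0, -1, -1, 0, -1, -2, 0, 0, -1, 0, 1, 0, 0, 1], [0, 0, 0, 0, 0, 0, 0, 0, 0, 0, -1, 0, 0, -1, 0, 0, 0, 0, 1], [0, 0, 0, 0, 0, 0, 0, 0, 0, 1, 2, 1, 1, 3, 1, 0, 1, 0, -2, -1, 0, -2, -1], [0, 0, 0, 0, 0, 0, 0, 0, 0, 0, 0, 0, -1], [0, 0, 0, 0, 0, 0, 0, 0, 0, 0, 0, -1, 0, 0, -1, 0, 1,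 0, 0, 2, 0, 0, 1, 0, -1, 0, 0, -1], [0, 0, 0, 0, 0, 0, 0, 0, 0, 0, 0, 0, 1, 0, 0, 0, 1, 0, 0, 0, 0, -1], [0, 0, 0, 0, 0, 0, 0, 0, 0, 0, 0, 0, 1, 0, 0, 0, 1, 0, 0, 0, 0, -1], [0, 0, 0, 0, 0, 0, 0, 0, 0, 0, 0, 0, -1, 0, 0, 0, -1, 2, 0, 0, 0, 2, -1, 0, 0, 0, -1], [0, 0, 0, 0, 0, 0, 0, 0, 0, 0, 0, 0, 0, 0, 0, 0, -1, -2, 0, -1, -2, 0, 1, 0, 1, 3, 1, 1, 2, 1], [0, 0, 0, 0, 0, 0, 0, 0, 0, 0, 0, 0, 0, 0, 0, 0, 0, -1, 0, 0, 0, 0, 1, 0, 0, 0, 1], [0, 0, 0, 0, 0, 0, 0, 0, 0, 0, 0, 0, 0, 0, 0, 0, 0, -1, 0, 0, 0, 0, 1, 0, 0, 0, 1], [0, 0, 0, 0, 0, 0, 0, 0, 0, 0, 0, 0, 0, 0, 0, 0, 0, 1, 0, 0, 1, 0, -1, 0, 0, -2, -1, 0, -1, -1], [0, 0, 0, 0, 0, 0, 0, 0, 0, 0, 0, 0, 0, 0, 0, 0, 0, 1, 0, 0, 1, 0, -1, 0, 0, -2, -1, 0, -1, -1], [0, 0, 0, 0, 0, 0, 0, 0, 0, 0, 0, 0, 0, 0, 0, 0, 0, 0, 0, 0, 1, 0, 0, 0,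 0, -1, 0, 0, -1], [0, 0, 0, 0, 0, 0, 0, 0, 0, 0, 0, 0, 0, 0, 0, 0, 0, 0, 0, 0, -1, 0, 0, 0, 0, 2, 0, 0, 1, 1, -1, 0, 0, -1, -1], [0, 0, 0, 0, 0, 0, 0, 0, 0, 0, 0, 0, 0, 0, 0, 0, 0, 0, 0, 0, 0, 0, 0, 0, 0, 0, 0, 0, 0, 0, 1, 0, 0, 1, 1, 0, 0, 1], [0, 0, 0, 0, 0, 0, 0, 0, 0, 0, 0, 0, 0, 0, 0, 0, 0, 0, 0, 0, 0, 0, 0, 0, 0, 0, -1], [0, 0, 0, 0, 0, 0, 0, 0, 0, 0, 0, 0, 0, 0, 0, 0, 0, 0, 0, 0, 0, 0, 0, 0, 0, 0, 1, 0, 0, 0, 1, 0, 0, 1, 1], [0, 0, 0, 0, 0, 0, 0, 0, 0, 0, 0, 0, 0, 0, 0, 0, 0, 0, 0, 0, 0, 0, 0, 0, 0, 0, 0, 0, 0, 0, -1, 0, 0, -1, -1, 0, 0, -1, -1], [0, 0, 0, 0, 0, 0, 0, 0, 0, 0, 0, 0, 0, 0, 0, 0, 0, 0, 0, 0, 0, 0, 0, 0, 0, 0, 0, 0, 0, 0, 0, 0, 0, 0, 0, 0, 0, 0, 1]]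

/-- the eigenvalues of the class sums -/
def lam (c : Fin 26) : List ℤ := lamL.getD c []

def ddL : List (List ℤ) := [[], [0, 0, 0, 0, 0, -1, 0, 0, 0, -1], [0, 0, 0, 0, 0, 1, 0, 0, 1, 1, 0, 0, 1], [0, 0, 0, 0, 0, 1, 0, 0, 0, 1, 0, 0, 0, 1, -1], [0, 0, 0, 0, 0, -1, 0, 0, -1, -2, 1, 0, -1, 0, 1, 0, 0, 1], [0, 0, 0, 0, 0, 0, 0, 0, 0, 0, -1, 0, 0, -2, 0, 0, -1, -1, 1, 0, -1, 1], [0, 0, 0, 0, 0, 0, 0, 0, 0, 0, -1, 0, 0, -2, 0, 0, -1, -1, 1, 0, -1, 1], [0, 0, 0, 0, 0, 0, 0, 0, 0, 1, -1], [0, 0, 0, 0, 0, 0, 0, 0, 0, 0, 2, 1, 0, 3, 1, 0, 1, 1, -2, -1, 1, -2, -1], [0, 0, 0, 0, 0, 0, 0, 0, 0, 0, 0, 0, 0, -1, 1], [0, 0, 0, 0, 0, 0, 0, 0, 0, 0, 0, -1, 0, 0, -1, 0, 1, 0, 0, 2, 0, 0, 1, 0, -1, 0, 0, -1], [0, 0, 0, 0, 0, 0, 0, 0, 0, 0, 0, 0, 0, 1, -1, 0, 1, 0, -1, 0, 1, -1], [0, 0, 0, 0, 0, 0,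 0, 0, 0, 0, 0, 0, 0, 1, -1, 0, 1, 0, -1, 0, 1, -1], [0, 0, 0, 0, 0, 0, 0, 0, 0, 0, 0, 0, 0, -1, 1, 0, -1, 2, 2, -1, -1, 4, -1, 0, 0, 1, -2, 1], [0, 0, 0, 0, 0, 0, 0, 0, 0, 0, 0, 0, 0, 0, 0, 0, -1, -2, 0, 0, -2, 0, 2, 0, 1, 3, 1, 0, 2, 1, -1], [0, 0, 0, 0, 0, 0, 0, 0, 0, 0, 0, 0, 0, 0, 0, 0, 0, -1, 0, 1, 0, -1, 1, 0, 0, -1, 2, -1], [0, 0, 0, 0, 0, 0, 0, 0, 0, 0, 0, 0, 0, 0, 0, 0, 0, -1, 0, 1, 0, -1, 1, 0, 0, -1, 2, -1], [0, 0, 0, 0, 0, 0, 0, 0, 0, 0, 0, 0, 0, 0, 0, 0, 0, 1, 0, -1, 1, 0, -2, 0, 0, -2, -1, 1, -1, -1, 1], [0, 0, 0, 0, 0, 0, 0, 0, 0, 0, 0, 0, 0, 0, 0, 0, 0, 1, 0, -1, 1, 0, -2, 0, 0, -2, -1, 1, -1, -1, 1], [0, 0, 0, 0, 0, 0, 0, 0, 0, 0, 0, 0, 0, 0, 0, 0, 0, 0, 0, 0, 1, -1, 0, 0, 0, -1, 1, 0, -1, 0, 1], [0, 0, 0, 0, 0, 0, 0, 0, 0, 0, 0, 0, 0, 0, 0, 0, 0, 0, 0, 0, -1, 1,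 1, 0, 0, 3, -2, -1, 1, 1, -4, 0, 0, -1, -1, 1], [0, 0, 0, 0, 0, 0, 0, 0, 0, 0, 0, 0, 0, 0, 0, 0, 0, 0, 0, 0, 0, 0, 0, 0, 0, 0, 0, 1, 0, 0, 2, 0, 0, 1, 1, -1, 0, 1, -1], [0, 0, 0, 0, 0, 0, 0, 0, 0, 0, 0, 0, 0, 0, 0, 0, 0, 0, 0, 0, 0, 0, 0, 0, 0, 1, -2, 1], [0, 0, 0, 0, 0, 0, 0, 0, 0, 0, 0, 0, 0, 0, 0, 0, 0, 0, 0, 0, 0, 0, 0, 0, 0, -1, 2, -1, 0, 0, 2, -1, 0, 1, 1, -1], [0, 0, 0, 0, 0, 0, 0, 0, 0, 0, 0, 0, 0, 0, 0, 0, 0, 0, 0, 0, 0, 0, 0, 0, 0, 0, 0, 0, 0, 0, -2, 1, 0, -1, -1, 1, 0, -1, 0, 1], [0, 0, 0, 0, 0, 0, 0, 0, 0, 0, 0, 0, 0, 0, 0, 0, 0, 0, 0, 0, 0, 0, 0, 0, 0, 0, 0, 0, 0, 0, 0, 0, 0, 0, 0, 0, 0, 0, 1, -1]]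

def dd (c : Fin 26) : List ℤ := ddL.getD c []

theorem hlam : ∀ c, pEq (pMul (lam c) (Ea12.C.nu 0)) (pMul (TabE8c.kk c) (Ea12.C.nu c)) = true := by decide +kernel

theorem hdd : ∀ c, pEq (lam c) (pAdd (LinkE8.lam c) (pMul [1, 1, 1, 1, 1] (dd c))) = true := by decide +kernel

def qq : List ℤ := [-8, 8, 0, 0, 0, -8, 8, 1, 0, 0, -7, 8, 2, 2, 0, -6, 10, 3, 4, 3, -5, 11, 8, 6, 5, 0, 12, 10, 13, 7, 2, 17, 12, 15, 14, 4, 16, 18, 17, 14, 10, 16, 15, 22, 15, 8, 18, 14, 17, 18, 8, 12, 14, 15, 12, 9, 10, 7, 13, 10, 4, 8, 5, 6, 8, 3, 3, 3, 4, 3, 2, 2, 0, 2, 2, 0, 1, 0, 0, 1]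

theorem hdn : pEq Ea12.C.dn (pAdd [8] (pMul [1, 1, 1, 1, 1] qq)) = true := by decide +kernel

/-! ### the constituent of degree `84` of node `7` -/

def lamP (c : Fin 5) : List ℤ := ([[1], [-1, 0, 0, 0, 0, -1, 0, 0, 0, -1, 0, 0, 0, 0, -1], [0, 0, 0, 0, 0, 1, 0, 0, 0, 1, 0, 0, 0, 1, 1, 0, 0, 0, 1, 0, 0, 0, 1], [0, 0, 0, 0, 0, 0, 0, 0, 0, 0, 0, 0, 0, -1, 0, 0, 0, 0, -1, 0, 0, 0, -1, 0, 0, 0, 0, -1], [0, 0, 0, 0, 0, 0, 0, 0, 0, 0, 0, 0, 0, 0, 0, 0, 0, 0, 0, 0, 0, 0, 0, 0, 0, 0, 0, 1]] : List (List ℤ)).getD c []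

def eP (c : Fin 5) : List ℤ := ([[], [1, 0, 0, 0, 0, 2, 0, 0, 0, 1, 2, 0, 0, 0, 2, 1, 0, 0, 0, 2, 0, 0, 0, 0, 1], [0, 0, 0, 0, 0, -1, 1, 0, 0, -1, 0, 1, 1, -1, -1, 1, 2, 1, -1, 0, 2, 2, 1, 0, 1, 2, 2, 1, 1, 1, 1, 2, 1, 1, 0, 1, 1, 1, 0, 0, 0, 1], [0, 0, 0, 0, 0, 0, 0, 0, 0, 0, 0, 0, 0, 1, -1, 0, 0, 0, 2, -2, 0, 0, 1, 1, -2, 0, 0, 2, 0, -1, 0, 0, 2, 0, 0, 0, 0, 2, 1, 0, 0, 0, 2, 1, 0, 0, 0, 2, 0, 0, 0, 0, 1], [0, 0, 0, 0, 0, 0, 0, 0, 0, 0, 0, 0, 0, 0, 0, 0, 0, 0, 0, 0, 0, 0, 0, 0, 0, 0, 0, -1, 1, 0, 0, 0, -1, 1, 0, 0, 0, -1, 1, 0, 0, 0, -1, 1, 0, 0, 0, -1, 1, 0, 0, 0, -1, 1]] : List (List ℤ)).getD c []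

theorem hlamP : ∀ c, pEq (pMul (lamP c) (TabE8a.c3.nu 0)) (pMul (TabE8a.data.kk c) (TabE8a.c3.nu c)) = true := by
  decide +kernel

theorem heP : ∀ c, pEq (TabE8a.data.kk c) (pAdd (lamP c) (pMul [1, 1, 1, 1, 1] (eP c))) = true := by decide +kernel

def q3 : List ℤ := [2, -2, 0, 1, 0, 2, -2, 0, 0, 2, 2, -2, -1, 2, 0, 5, -2, -1, -1, 4, 2, 2, -2, 0, -1, 8, -1, 1, -2, 1, 1, 6, -1, 0, -2, 4, 0, 4, -1, -1, 0, 3, 0, 2, -1, 0, 0, 2, 0, 0, 0, 0, 0, 1]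

theorem hdn3 : pEq TabE8a.c3.dn (pAdd [-2] (pMul [1, 1, 1, 1, 1] q3)) = true := by decide +kernel

theorem hcls8 : TabE8a.data.t.cls TabE8a.data.t.o = 0 := by decide +kernel

theorem pos84 : pPos (TabE8a.c3.nu 0) = true := by decide +kernel

theorem posd84 : pPos TabE8a.c3.dn = true := by decide +kernel

theorem e8_eq : ∀ i, TabE8a.data.e i = 1 := by decide +kernel

section Link

variable {W : Type*} {Y : Type u} [Group W] [Finite W] [Group Y] [Finite Y]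
    {M : CoxeterMatrix (Fin 8)} {cs : CoxeterSystem M W} {h : IsCartan M TabE8c.A} {p : ℕ} {T : Subgroup Y}
    {n : Fin 8 → Y} {X : (Fin 8 → ℤ) → Subgroup Y}

theorem lam_eq {x : ℕ} (hx : 2 ≤ x) (c : Fin 26) :
    ev x (TabE8c.data.kk c) * (ev (x : ℚ) (Ea12.C.nu c) / ev x (Ea12.C.nu 0)) = ev x (lam c) := by
  have hx' : (2 : ℚ) ≤ (x : ℚ) := by exact_mod_cast hx
  have h1 := ev_of_pEq (x : ℚ) (hlam c)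
  rw [ev_pMul, ev_pMul] at h1
  have h2 := (ev_pos hx' Ea12.ok.1).ne'
  rw [← mul_div_assoc, div_eq_iff h2, show TabE8c.data.kk c = TabE8c.kk c from rfl, h1]

/-- **The link modulo `Φ₅`.** -/
theorem same_84_1344 (R : RGD cs h p T n X) (hG : GG cs h T X = ⊤) {x : ℕ} (hx : 2 ≤ x)
    (hq : ∀ i, Nat.card (X (sr i)) = x) {χ χ' : Y → ℂ} {d d' : ℕ} {a : Fin 5 → ℚ}
    (H : HasVal R hG tabP χ d a) {r : ℚ} (hr : r ≠ 0) (hf : ∀ c, a c = r * ev x (TabE8a.c3.nu c))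
    (H' : HasVal R hG TabE8c.data.t χ' d' (fun c => ev x (Ea12.C.nu c) / ev x (Ea12.C.nu 0)))
    {l : ℕ} (hl : l.Prime) (hd : (l : ℤ) ∣ evZ x [1, 1, 1, 1, 1]) {M' : Ideal AlgInt} (hM : IsPModular l M') :
    SameBlock M' χ χ' := by
  obtain ⟨K, h1, h2⟩ := exists_kernel R hG hx hq H hf
  refine sameBlock_of_iso R hG TabE8c.data.t (fun i => x ^ TabE8c.data.e i)
    (fun i => by rw [e_eq, pow_one]; exact hq i) (fun s => x ^ TabE8c.data.wl s) (by simp only [TabE8c.data.wo, pow_zero])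
    (fun i s h9 => by
      show x ^ TabE8c.data.wl (TabE8c.data.t.st i s) = x ^ TabE8c.data.e i * x ^ TabE8c.data.wl s
      rw [TabE8c.data.ws i s h9, pow_add]) (fun g y => h1 g y) h2 ?_ H' hM fun c => ?_
  · rw [cls_o]
    exact LinkE8.k2v_ne hf hr hx
  · have hK : (∑ s, if TabE8c.data.t.cls s = c then ((x ^ TabE8c.data.wl s : ℕ) : ℚ) else 0) = ev x (TabE8c.data.kk c) := by
      rw [← ChkK.spec (x : ℚ) TabE8c.data.chkK c, Finset.sum_filter]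
      refine Finset.sum_congr rfl fun s _ => ?_
      push_cast
      rfl
    rw [hK, cls_o]
    have hx' : (2 : ℚ) ≤ (x : ℚ) := by exact_mod_cast hx
    have hkk : ∀ c, ev (x : ℚ) (TabE8c.data.kk c) ≠ 0 := fun c => (ev_pos hx' (TabE8c.data.chkP c)).ne'
    obtain ⟨u, v, hv, h3⟩ := LinkE8.cong hf hr hx hl hd
      (a := fun c => ev x (LinkE8.lam c) / ev x (TabE8c.data.kk c)) (fun c => by rw [mul_div_cancel₀ _ (hkk c)]) c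
    obtain ⟨w, hw⟩ := hd
    refine ⟨u - v * w * evZ x (dd c), v, hv, ?_⟩
    have h4 := ev_of_pEq (x : ℚ) (hdd c)
    rw [ev_pAdd, ev_pMul] at h4
    have e1 := evZ_cast x (dd c)
    have e2 := evZ_cast x [1, 1, 1, 1, 1]
    push_cast at e1 e2
    rw [hw] at e2
    push_cast at e2
    have h5 := lam_eq hx c
    rw [mul_sub, mul_div_cancel₀ _ (hkk c)] at h3
    rw [mul_sub, h5, h4, ← e2, ← e1]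
    push_cast
    linear_combination h3

/-- the degree modulo the primes dividing `Φ₅(q)` -/
theorem deg_mod {x : ℕ} (hx : 2 ≤ x) {l : ℕ} (hl2 : l.Coprime 2) (hd : (l : ℤ) ∣ evZ x [1, 1, 1, 1, 1]) :
    (l : ℤ) ∣ (val Ea12.C.den Ea12.C.dn x : ℤ) - 4 := by
  have h1 := val_spec (den := Ea12.C.den) two_pos Ea12.dvd Ea12.ok.2.1 hx
  have h2 := ev_of_pEq (x : ℚ) hdn
  rw [ev_pAdd, ev_pMul, ev_cons, ev_nil] at h2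
  obtain ⟨w, hw⟩ := hd
  have e1 := evZ_cast x qq
  have e2 := evZ_cast x [1, 1, 1, 1, 1]
  have e3 : ((Ea12.C.den : ℕ) : ℚ) = 2 := by
    show ((2 : ℕ) : ℚ) = 2
    norm_num
  rw [e3] at h1
  push_cast at e1 e2 h1 h2
  rw [hw] at e2
  push_cast at e2
  have h3 : (2 : ℤ) * ((val Ea12.C.den Ea12.C.dn x : ℤ) - 4) = l * (w * evZ x qq) := by
    have h4 : ((2 * ((val Ea12.C.den Ea12.C.dn x : ℤ) - 4) : ℤ) : ℚ) = ((l * (w * evZ x qq) : ℤ) : ℚ) := by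
      push_cast
      rw [e1]
      linear_combination h1 + h2 - ev (x : ℚ) qq * e2
    exact_mod_cast h4
  have h5 : IsCoprime (l : ℤ) 2 := by exact_mod_cast Nat.isCoprime_iff_coprime.2 hl2
  exact h5.dvd_of_dvd_mul_left (h3 ▸ dvd_mul_right _ _)

/-- **`84` is in the principal block** for the primes dividing `Φ₅(q)`. -/
theorem same_1_84 {h' : IsCartan M TabE8a.A} (R : RGD cs h' p T n X) (hG : GG cs h' T X = ⊤) {x : ℕ} (hx : 2 ≤ x)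
    (hq : ∀ i, Nat.card (X (sr i)) = x) {χ : Y → ℂ} {d : ℕ}
    (H : HasVal R hG TabE8a.data.t χ d (fun c => ev x (TabE8a.c3.nu c) / ev x (TabE8a.c3.nu 0)))
    {l : ℕ} (hd : (l : ℤ) ∣ evZ x [1, 1, 1, 1, 1]) {M' : Ideal AlgInt} (hM : IsPModular l M') :
    SameBlock M' (1 : Y → ℂ) χ := by
  have hx' : (2 : ℚ) ≤ (x : ℚ) := by exact_mod_cast hx
  refine HasVal.sameBlock R hG TabE8a.data.t (fun i => x ^ TabE8a.data.e i)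
    (fun i => by rw [e8_eq, pow_one]; exact hq i) (fun s => x ^ TabE8a.data.wl s)
    (by simp only [TabE8a.data.wo, pow_zero])
    (fun i s h9 => by
      show x ^ TabE8a.data.wl (TabE8a.data.t.st i s) = x ^ TabE8a.data.e i * x ^ TabE8a.data.wl s
      rw [TabE8a.data.ws i s h9, pow_add]) (HasVal.trivial R hG TabE8a.data.t) H hM fun c => ?_
  have hK : (∑ s, if TabE8a.data.t.cls s = c then ((x ^ TabE8a.data.wl s : ℕ) : ℚ) else 0) = ev x (TabE8a.data.kk c) := by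
    rw [← ChkK.spec (x : ℚ) TabE8a.data.chkK c, Finset.sum_filter]
    refine Finset.sum_congr rfl fun s _ => ?_
    push_cast
    rfl
  rw [hK]
  obtain ⟨w, hw⟩ := hd
  refine ⟨w * evZ x (eP c), ?_⟩
  have h1 := ev_of_pEq (x : ℚ) (hlamP c)
  have h2 := ev_of_pEq (x : ℚ) (heP c)
  rw [ev_pMul, ev_pMul] at h1
  rw [ev_pAdd, ev_pMul] at h2
  have e1 := evZ_cast x (eP c)
  have e2 := evZ_cast x [1, 1, 1, 1, 1]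
  push_cast at e1 e2
  rw [hw] at e2
  push_cast at e2
  have h3 := (ev_pos hx' pos84).ne'
  have h4 : ev x (TabE8a.data.kk c) * (ev (x : ℚ) (TabE8a.c3.nu c) / ev x (TabE8a.c3.nu 0)) = ev x (lamP c) := by
    rw [← mul_div_assoc, div_eq_iff h3, h1]
  push_cast
  rw [mul_sub, mul_one, h4, h2, ← e2, ← e1]
  ring

/-- the degree of `84` modulo the primes dividing `Φ₅(q)` -/
theorem deg_mod84 {x : ℕ} (hx : 2 ≤ x) {l : ℕ} (hl2 : l.Coprime 2) (hd : (l : ℤ) ∣ evZ x [1, 1, 1, 1, 1]) :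
    (l : ℤ) ∣ (val TabE8a.c3.den TabE8a.c3.dn x : ℤ) + 1 := by
  have h1 := val_spec (den := TabE8a.c3.den) two_pos TabE8a.dvd3 posd84 hx
  have h2 := ev_of_pEq (x : ℚ) hdn3
  rw [ev_pAdd, ev_pMul, ev_cons, ev_nil] at h2
  obtain ⟨w, hw⟩ := hd
  have e1 := evZ_cast x q3
  have e2 := evZ_cast x [1, 1, 1, 1, 1]
  have e3 : ((TabE8a.c3.den : ℕ) : ℚ) = 2 := by
    show ((2 : ℕ) : ℚ) = 2
    norm_num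
  rw [e3] at h1
  push_cast at e1 e2 h1 h2
  rw [hw] at e2
  push_cast at e2
  have h3 : (2 : ℤ) * ((val TabE8a.c3.den TabE8a.c3.dn x : ℤ) + 1) = l * (w * evZ x q3) := by
    have h4 : ((2 * ((val TabE8a.c3.den TabE8a.c3.dn x : ℤ) + 1) : ℤ) : ℚ) = ((l * (w * evZ x q3) : ℤ) : ℚ) := by
      push_cast
      rw [e1]
      linear_combination h1 + h2 - ev (x : ℚ) q3 * e2
    exact_mod_cast h4
  have h5 : IsCoprime (l : ℤ) 2 := by exact_mod_cast Nat.isCoprime_iff_coprime.2 hl2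
  exact h5.dvd_of_dvd_mul_left (h3 ▸ dvd_mul_right _ _)

end Link

end Cfsg.Agent.H230.XZ.A12
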