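import Cfsg.Agent.H116.RatB0.StExc

/-!
# The inputs of the Steinberg character of the split exceptional groups (helper230, for S4791 and S4927)

* `hJ_E8`, `hJ_E7`, `hJ_E6` : `p` divides the indices of all proper parabolic subgroups;
* `hcard_E8`, `hcard_E7`, `hcard_E6` : the order of the subgroup generated by the positive root groups.
-/

set_option autoImplicit false
set_option linter.unusedSectionVars false

namespace Cfsg.Agent.H230.XZ

open CoxeterSystem Cfsg.Agent.ChevalleyStructure.CoxeterGeom Cfsg.Agent.Tits.Roots Cfsg.Agent.Tits.Core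
  Cfsg.Agent.Tits.RootComb Cfsg.Agent.Nodes.Reps Cfsg.Agent.Nodes.BNOf
  Cfsg.Agent.Nodes.StabComb Cfsg.Agent.Nodes.Bruhat Cfsg.Agent.Nodes.LeviDec Cfsg.Agent.H35.Poin
  Cfsg.Agent.H35.PoinNum Cfsg.Agent.H35.ExcIdx Cfsg.Agent.H134.StrP
  Cfsg.Agent.ChevalleyStructure.CoxeterGeomTypes Cfsg.Lie
open Cfsg.Agent.Nodes.RGDChev Cfsg.Agent.ChevalleyStructure.NPerm
open Cfsg.Agent.H116.RatB0

universe u

section Gen

variable {D : ChevalleyDatum} {l : ℕ} {M : CoxeterMatrix (Fin l)} (hp : IsType D l M) (K : Type u) [Field K]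
  [Fintype K] {r f : ℕ} (hr : r.Prime) (hf : f ≠ 0) (hK : Fintype.card K = r ^ f) [CharP K r]

include hr hf hK in
/-- the indices of the maximal parabolic subgroups -/
theorem dvd_idx_split {g : ℕ} (hg : g ∣ r ^ f - 1)
    (hT : g * Nat.card (D.diagonalSubgroup K) = (r ^ f - 1) ^ D.rank) {dS : List ℕ} {N : ℕ}
    (hdS : ∀ d ∈ dS, 0 < d ∧ d < N) (hS : ∃ b, g * Nat.card (D.group K) = r ^ b * pr (r ^ f) dS)
    {p m : ℕ} (hpm : (p : ℤ) ∣ E (r ^ f) m) (hm : m < N)
    (hall : ∀ k : Fin l, ∃ (J : List (Fin l)) (dJ : List ℕ), (∀ j, j ∈ J ↔ j ≠ k) ∧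
      ((∀ (_ : Finite M.Group), RGD M.toCoxeterSystem hp.isCartan r (TT D K)
        (fun i => (⟨nn hp K i, nn_mem_group hp i⟩ : ↥(D.group K))) (XX D l K) →
        (∀ i, Nat.card (XX D l K (sr i)) = r ^ f) →
        ParOrd M.toCoxeterSystem hp.isCartan (TT D K) (XX D l K) (r ^ f) l J dJ)) ∧
      (∀ d ∈ dJ, 0 < d ∧ d < N) ∧ (∀ m < N, cnt dJ m ≤ cnt dS m) ∧ cnt dJ m < cnt dS m)
    (J : Set (Fin l)) (hJ : J ≠ Set.univ) :
    p ∣ (PJ M.toCoxeterSystem hp.isCartan (TT D K) (XX D l K) J).index := by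
  have : Fact r.Prime := ⟨hr⟩
  have hfin := finite_W hp M.toCoxeterSystem
  have hR := rgd (K := K) hp M.toCoxeterSystem r
  have h2 := two_le hr hf
  have hc : ∀ i, Nat.card (XX D l K (sr i)) = r ^ f := fun i => by
    rw [card_XX hp K M.toCoxeterSystem (isRoot_sr _ _ i), Nat.card_eq_fintype_card, hK]
  obtain ⟨k, hk⟩ := (Set.ne_univ_iff_exists_notMem J).1 hJ
  obtain ⟨L, dJ, e1, e2, e3, e4, e5⟩ := hall k
  have h3 : J ⊆ {j | j ∈ L} := by
    intro j hj
    refine (e1 j).2 ?_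
    rintro rfl
    exact hk hj
  have h4 : p ∣ (PJ M.toCoxeterSystem hp.isCartan (TT D K) (XX D l K) {j | j ∈ L}).index :=
    dvd_idx h2 hdS e3 (idx_of_parOrd hp K hr hf hK _ hg hT (fun d hd => (hdS d hd).1) hS (e2 hfin hR hc)) e4 hpm hm e5
  refine h4.trans (Subgroup.index_dvd_of_le fun x hx => ?_)
  obtain ⟨w, hw, hc⟩ := (mem_PJ_iff_cell hR).1 hx
  exact (mem_PJ_iff_cell hR).2 ⟨w, Subgroup.closure_mono (Set.image_mono h3) hw, hc⟩

include hr hf hK in
/-- the order of the subgroup generated by the positive root groups -/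
theorem card_sup_pos {g : ℕ} (hg : g ∣ r ^ f - 1) {b : ℕ} {dS : List ℕ} (hdS : ∀ d ∈ dS, 0 < d)
    (hS : g * Nat.card (D.group K) = (r ^ f) ^ b * pr (r ^ f) dS) :
    Nat.card (RGD.Sup (XX D l K) (RGD.Pos M.toCoxeterSystem hp.isCartan)) = Fintype.card K ^ b := by
  have : Fact r.Prime := ⟨hr⟩
  have hfin := finite_W hp M.toCoxeterSystem
  have hR := rgd (K := K) hp M.toCoxeterSystem r
  obtain ⟨a, ha⟩ := (IsPGroup.iff_card (p := r)).1 hR.isPGroup_Upos
  have h4 := KFacts.RgdSyl.not_dvd_relIndex hR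
  rw [GG_eq_top hp K M.toCoxeterSystem, Subgroup.relIndex_top_right] at h4
  have h5 : ¬ r ∣ g * (RGD.Sup (XX D l K) (RGD.Pos M.toCoxeterSystem hp.isCartan)).index := by
    rw [hr.dvd_mul, not_or]
    exact ⟨not_dvd_of_dvd hr hf hg, h4⟩
  have h6 := Subgroup.card_mul_index (RGD.Sup (XX D l K) (RGD.Pos M.toCoxeterSystem hp.isCartan))
  rw [ha] at h6
  have h7 : r ^ a * (g * (RGD.Sup (XX D l K) (RGD.Pos M.toCoxeterSystem hp.isCartan)).index) =
      r ^ (f * b) * pr (r ^ f) dS := by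
    rw [pow_mul, ← hS, ← h6]
    ring
  have h8 := cancel_pow hr.pos (not_dvd_pr hr hf _ hdS) h5 h7
  rw [h8] at h7
  have h9 : 0 < pr (r ^ f) dS := pr_pos (two_le hr hf) _ hdS
  rw [ha, hK, ← pow_mul]
  exact Nat.eq_of_mul_eq_mul_right h9 h7

end Gen

variable (K : Type u) [Field K] [Fintype K]

/-- `E₈(q)`: the parabolic subgroups -/
theorem hJ_E8 {p m : ℕ} (hm : m ∈ [2, 3, 4, 5, 6, 8, 10, 12, 15, 20, 24, 30])
    (hd : (p : ℤ) ∣ E (Fintype.card K) m) (J : Finset (Fin 8)) (hJ : J ≠ Finset.univ) :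
    p ∣ (PJ CoxeterMatrix.E₈.toCoxeterSystem hpE8.isCartan (TT chevE8 K) (XX chevE8 8 K) (J : Set (Fin 8))).index := by
  obtain ⟨r, f, _, hr, hf, hK⟩ := exists_pow K
  rw [hK] at hd
  have h2 := two_le hr hf
  refine dvd_idx_split hpE8 K hr hf hK (g := 1) (one_dvd _)
    (by rw [← hK]; exact Cfsg.Agent.S1035.result rfl (chevE8, 1) (by simp))
    (dS := [2, 8, 12, 14, 18, 20, 24, 30]) (N := 31) (by decide) ⟨f * 120, ?_⟩ hd ?_ ?_ J
    (fun h => hJ (Finset.coe_eq_univ.1 h))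
  · have h3 := Cfsg.Agent.S1065.result hK
    rw [pow_mul]
    simp only [pr_cons, pr_nil]
    rw [one_mul, h3]
    ring
  · clear hd; revert m; decide
  · intro k
    fin_cases k
    · exact ⟨_, _, by decide, fun _ R hs => oE8_1234567 R h2 hs, by decide, by decide, by clear hd; revert m; decide⟩
    · exact ⟨_, _, by decide, fun _ R hs => oE8_0234567 R h2 hs, by decide, by decide, by clear hd; revert m; decide⟩
    · exact ⟨_, _, by decide, fun _ R hs => oE8_0134567 R h2 hs, by decide, by decide, by clear hd; revert m; decide⟩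
    · exact ⟨_, _, by decide, fun _ R hs => oE8_0124567 R h2 hs, by decide, by decide, by clear hd; revert m; decide⟩
    · exact ⟨_, _, by decide, fun _ R hs => oE8_0123567 R h2 hs, by decide, by decide, by clear hd; revert m; decide⟩
    · exact ⟨_, _, by decide, fun _ R hs => oE8_0123467 R h2 hs, by decide, by decide, by clear hd; revert m; decide⟩
    · exact ⟨_, _, by decide, fun _ R hs => oE8_0123457 R h2 hs, by decide, by decide, by clear hd; revert m; decide⟩
    · exact ⟨_, _, by decide, fun _ R hs => oE8_0123456 R h2 hs, by decide, by decide, by clear hd; revert m; decide⟩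

theorem hcard_E8 : Nat.card (RGD.Sup (XX chevE8 8 K) (RGD.Pos CoxeterMatrix.E₈.toCoxeterSystem hpE8.isCartan)) =
    Fintype.card K ^ 120 := by
  obtain ⟨r, f, _, hr, hf, hK⟩ := exists_pow K
  refine card_sup_pos hpE8 K hr hf hK (g := 1) (one_dvd _) (dS := [2, 8, 12, 14, 18, 20, 24, 30]) (by decide) ?_
  have h3 := Cfsg.Agent.S1065.result hK
  simp only [pr_cons, pr_nil]
  rw [one_mul, h3]
  ring

/-- `E₇(q)`: the parabolic subgroups -/
theorem hJ_E7 {p m : ℕ} (hm : m ∈ [2, 6, 14, 18])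
    (hd : (p : ℤ) ∣ E (Fintype.card K) m) (J : Finset (Fin 7)) (hJ : J ≠ Finset.univ) :
    p ∣ (PJ CoxeterMatrix.E₇.toCoxeterSystem hpE7.isCartan (TT chevE7 K) (XX chevE7 7 K) (J : Set (Fin 7))).index := by
  obtain ⟨r, f, _, hr, hf, hK⟩ := exists_pow K
  rw [hK] at hd
  have h2 := two_le hr hf
  refine dvd_idx_split hpE7 K hr hf hK (g := Nat.gcd 2 (r ^ f - 1)) (Nat.gcd_dvd_right _ _)
    (by rw [← hK]; exact Cfsg.Agent.S1035.result rfl (chevE7, Nat.gcd 2 (Fintype.card K - 1)) (by simp))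
    (dS := [2, 6, 8, 10, 12, 14, 18]) (N := 31) (by decide) ⟨f * 63, ?_⟩ hd ?_ ?_ J
    (fun h => hJ (Finset.coe_eq_univ.1 h))
  · have h3 := Cfsg.Agent.S1064.result hK
    rw [pow_mul]
    simp only [pr_cons, pr_nil]
    rw [h3]
    ring
  · clear hd; revert m; decide
  · intro k
    fin_cases k
    · exact ⟨_, _, by decide, fun _ R hs => oE7_123456 R h2 hs, by decide, by decide, by clear hd; revert m; decide⟩
    · exact ⟨_, _, by decide, fun _ R hs => oE7_023456 R h2 hs, by decide, by decide, by clear hd; revert m; decide⟩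
    · exact ⟨_, _, by decide, fun _ R hs => oE7_013456 R h2 hs, by decide, by decide, by clear hd; revert m; decide⟩
    · exact ⟨_, _, by decide, fun _ R hs => oE7_012456 R h2 hs, by decide, by decide, by clear hd; revert m; decide⟩
    · exact ⟨_, _, by decide, fun _ R hs => oE7_012356 R h2 hs, by decide, by decide, by clear hd; revert m; decide⟩
    · exact ⟨_, _, by decide, fun _ R hs => oE7_012346 R h2 hs, by decide, by decide, by clear hd; revert m; decide⟩
    · exact ⟨_, _, by decide, fun _ R hs => oE7_012345 R h2 hs, by decide, by decide, by clear hd; revert m; decide⟩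

theorem hcard_E7 : Nat.card (RGD.Sup (XX chevE7 7 K) (RGD.Pos CoxeterMatrix.E₇.toCoxeterSystem hpE7.isCartan)) =
    Fintype.card K ^ 63 := by
  obtain ⟨r, f, _, hr, hf, hK⟩ := exists_pow K
  refine card_sup_pos hpE7 K hr hf hK (g := Nat.gcd 2 (r ^ f - 1)) (Nat.gcd_dvd_right _ _)
    (dS := [2, 6, 8, 10, 12, 14, 18]) (by decide) ?_
  have h3 := Cfsg.Agent.S1064.result hK
  simp only [pr_cons, pr_nil]
  rw [h3]
  ring

/-- `E₆(q)`: the parabolic subgroups -/
theorem hJ_E6 {p m : ℕ} (hm : m ∈ [3, 6, 9, 12])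
    (hd : (p : ℤ) ∣ E (Fintype.card K) m) (J : Finset (Fin 6)) (hJ : J ≠ Finset.univ) :
    p ∣ (PJ CoxeterMatrix.E₆.toCoxeterSystem hpE6.isCartan (TT chevE6 K) (XX chevE6 6 K) (J : Set (Fin 6))).index := by
  obtain ⟨r, f, _, hr, hf, hK⟩ := exists_pow K
  rw [hK] at hd
  have h2 := two_le hr hf
  refine dvd_idx_split hpE6 K hr hf hK (g := Nat.gcd 3 (r ^ f - 1)) (Nat.gcd_dvd_right _ _)
    (by rw [← hK]; exact Cfsg.Agent.S1035.result rfl (chevE6, Nat.gcd 3 (Fintype.card K - 1)) (by simp))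
    (dS := [2, 5, 6, 8, 9, 12]) (N := 31) (by decide) ⟨f * 36, ?_⟩ hd ?_ ?_ J
    (fun h => hJ (Finset.coe_eq_univ.1 h))
  · have h3 := Cfsg.Agent.S1063.result hK
    rw [pow_mul]
    simp only [pr_cons, pr_nil]
    rw [h3]
    ring
  · clear hd; revert m; decide
  · intro k
    fin_cases k
    · exact ⟨_, _, by decide, fun _ R hs => oE6_12345 R h2 hs, by decide, by decide, by clear hd; revert m; decide⟩
    · exact ⟨_, _, by decide, fun _ R hs => oE6_02345 R h2 hs, by decide, by decide, by clear hd; revert m; decide⟩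
    · exact ⟨_, _, by decide, fun _ R hs => oE6_01345 R h2 hs, by decide, by decide, by clear hd; revert m; decide⟩
    · exact ⟨_, _, by decide, fun _ R hs => oE6_01245 R h2 hs, by decide, by decide, by clear hd; revert m; decide⟩
    · exact ⟨_, _, by decide, fun _ R hs => oE6_01235 R h2 hs, by decide, by decide, by clear hd; revert m; decide⟩
    · exact ⟨_, _, by decide, fun _ R hs => oE6_01234 R h2 hs, by decide, by decide, by clear hd; revert m; decide⟩

theorem hcard_E6 : Nat.card (RGD.Sup (XX chevE6 6 K) (RGD.Pos CoxeterMatrix.E₆.toCoxeterSystem hpE6.isCartan)) =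
    Fintype.card K ^ 36 := by
  obtain ⟨r, f, _, hr, hf, hK⟩ := exists_pow K
  refine card_sup_pos hpE6 K hr hf hK (g := Nat.gcd 3 (r ^ f - 1)) (Nat.gcd_dvd_right _ _)
    (dS := [2, 5, 6, 8, 9, 12]) (by decide) ?_
  have h3 := Cfsg.Agent.S1063.result hK
  simp only [pr_cons, pr_nil]
  rw [h3]
  ring

end Cfsg.Agent.H230.XZ
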